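import Cfsg.Agent.M24Orbits.Transitive
import Cfsg.Agent.M24Orbits.Data.ClassReps
import Cfsg.Agent.Mathieu.FixList

/-!
Representatives for elements of small order in `M24` with given fixed points, and the number of
configurations an element fixes.
-/

set_option autoImplicit false

open scoped Pointwise

namespace CfsgLib.M24Orbits

open Cfsg CfsgLib.Golay CfsgLib.Mathieu Data

/-! ### Fixed configurations -/

theorem encM_injective : Function.Injective encM := by
  intro s t h
  exact toMask_injective (List.singleton_injective h)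

/-- The number of configurations with a property of the encoding. -/
theorem ncard_enc {X : Type*} [MulAction (Equiv.Perm GolayPt) X]
    {H : Subgroup (Equiv.Perm GolayPt)} {C : Set X} {enc : X → List ℕ}
    {act : List ℕ → List ℕ → List ℕ} {gens reps : List (List ℕ)} {xs : List X}
    {cert : List (List Entry)} (h : Setup H C enc act gens xs reps cert)
    (henc : Function.Injective enc) (P : X → Prop) (q : List ℕ → Bool)
    (hq : ∀ x ∈ C, (q (enc x) = true ↔ P x)) :
    {x | x ∈ C ∧ P x}.ncard =
      cert.flatten.countP (fun c => q (eEnc (reps.headD []).length c)) := by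
  have hex : ∀ j : Fin cert.flatten.length, ∃ y ∈ C,
      key (enc y) = eKey cert.flatten[j] ∧ enc y = eEnc (reps.headD []).length cert.flatten[j] := by
    intro j
    obtain ⟨hkey, hi, g, hg, e⟩ := entry_sound h _ cert.flatten[j] (List.getElem_mem j.2) rfl
    exact ⟨_, h.inv g hg _ (h.mem _ (List.getElem_mem hi)), by rw [e]; exact hkey, e⟩
  choose f hfC hfk hfe using hex
  have hok := h.ok
  simp only [certOK, Bool.and_eq_true] at hok
  have hnd := incr_nodup _ hok.2
  have hinj : Function.Injective f := by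
    intro a b e
    have he : eKey cert.flatten[a] = eKey cert.flatten[b] := by rw [← hfk a, ← hfk b, e]
    have ha : a.1 < (cert.flatten.map eKey).length := by rw [List.length_map]; exact a.2
    have hb : b.1 < (cert.flatten.map eKey).length := by rw [List.length_map]; exact b.2
    exact Fin.ext ((hnd.getElem_inj_iff (hi := ha) (hj := hb)).1
      (by rw [List.getElem_map, List.getElem_map]; exact he))
  have hr : Set.range f = C := by
    refine Set.eq_of_subset_of_ncard_le ?_ ?_ h.fin
    · rintro _ ⟨j, rfl⟩; exact hfC j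
    · rw [Set.ncard_range_of_injective hinj, Nat.card_eq_fintype_card, Fintype.card_fin, h.card]
  have hval : ∀ j, P (f j) ↔ q (eEnc (reps.headD []).length cert.flatten[j]) = true := by
    intro j
    rw [← hfe j, hq _ (hfC j)]
  have hset : {x | x ∈ C ∧ P x} =
      f '' {j | q (eEnc (reps.headD []).length cert.flatten[j]) = true} := by
    ext y
    constructor
    · rintro ⟨hy, hpy⟩
      rw [← hr] at hy
      obtain ⟨j, rfl⟩ := hy
      exact ⟨j, (hval j).1 hpy, rfl⟩
    · rintro ⟨j, hj, rfl⟩
      exact ⟨hfC j, (hval j).2 hj⟩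
  rw [hset, Set.ncard_image_of_injective _ hinj, Set.ncard_eq_toFinset_card',
    ← card_filter_getElem cert.flatten (fun c => q (eEnc (reps.headD []).length c))]
  refine congrArg Finset.card ?_
  ext j
  simp

/-- The number of configurations fixed by an element. -/
theorem ncard_fixed {X : Type*} [MulAction (Equiv.Perm GolayPt) X]
    {H : Subgroup (Equiv.Perm GolayPt)} {C : Set X} {enc : X → List ℕ}
    {act : List ℕ → List ℕ → List ℕ} {gens reps : List (List ℕ)} {xs : List X}
    {cert : List (List Entry)} (h : Setup H C enc act gens xs reps cert)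
    (henc : Function.Injective enc) (g : Equiv.Perm GolayPt) :
    {x | x ∈ C ∧ g • x = x}.ncard = cert.flatten.countP (fun c =>
      act (toTab g) (eEnc (reps.headD []).length c) == eEnc (reps.headD []).length c) := by
  refine ncard_enc h henc (fun x => g • x = x) (fun e => act (toTab g) e == e) fun x _ => ?_
  rw [beq_iff_eq, ← h.enc_smul]
  exact henc.eq_iff

/-- Fixed configurations of conjugate elements. -/
theorem ncard_fixed_conj {X : Type*} [MulAction (Equiv.Perm GolayPt) X] {C : Set X}
    {c : Equiv.Perm GolayPt} (hC : ∀ x, c • x ∈ C ↔ x ∈ C) (g : Equiv.Perm GolayPt) :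
    {x | x ∈ C ∧ (c * g * c⁻¹) • x = x}.ncard = {x | x ∈ C ∧ g • x = x}.ncard := by
  have e : {x | x ∈ C ∧ (c * g * c⁻¹) • x = x} = (fun x => c • x) '' {x | x ∈ C ∧ g • x = x} := by
    ext x
    constructor
    · rintro ⟨hx, hf⟩
      refine ⟨c⁻¹ • x, ⟨(hC _).1 (by rwa [smul_inv_smul]), ?_⟩, smul_inv_smul c x⟩
      rw [mul_smul, mul_smul] at hf
      exact eq_inv_smul_iff.2 hf
    · rintro ⟨y, ⟨hy, hf⟩, rfl⟩
      exact ⟨(hC y).2 hy, by rw [mul_smul, mul_smul, inv_smul_smul, hf]⟩
  rw [e, Set.ncard_image_of_injective _ (MulAction.injective c)]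

/-! ### Classes -/

/-- Powers of a table. -/
def powTab (t : List ℕ) : ℕ → List ℕ
  | 0 => idTab
  | n + 1 => compTab (powTab t n) t

theorem toTab_pow (g : Equiv.Perm GolayPt) : ∀ n, toTab (g ^ n) = powTab (toTab g) n
  | 0 => by rw [pow_zero, toTab_one]; rfl
  | n + 1 => by rw [pow_succ, toTab_mul, toTab_pow g n]; rfl

/-- Candidates: tables in a coset of a point stabiliser with given order and fixed points. -/
def classCands (move : List ℕ) (L : List (List ℕ)) (n k : ℕ) : List (List ℕ) :=
  (L.map (compTab move)).filter fun c => powTab c n == idTab && fixCount c == k && c != idTab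

/-- Every candidate has a power in the listed exponents conjugate to the representative. -/
noncomputable def classOK (rep : List ℕ) (conj : List (List ℕ)) (js : List ℕ) (cands : List (List ℕ)) : Bool :=
  autoOK rep && conj.all autoOK &&
    cands.all (fun c => js.any fun j => conj.any fun y =>
      compTab y rep == compTab (powTab c j) y)

theorem exists_conj_of_cands {rep : List ℕ} {conj : List (List ℕ)} {js : List ℕ}
    {cands : List (List ℕ)} (hok : classOK rep conj js cands = true) {g : Equiv.Perm GolayPt}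
    (hg : toTab g ∈ cands) :
    ∃ ρ ∈ M24, toTab ρ = rep ∧ ∃ j ∈ js, ∃ c ∈ M24, c * ρ * c⁻¹ = g ^ j := by
  simp only [classOK, Bool.and_eq_true, List.all_eq_true, List.any_eq_true, beq_iff_eq] at hok
  obtain ⟨⟨hrep, hconj⟩, hall⟩ := hok
  obtain ⟨j, hj, y, hy, e⟩ := hall _ hg
  obtain ⟨ρ, hρ, rfl⟩ := rep_of_autoOK hrep
  obtain ⟨c, hc, rfl⟩ := rep_of_autoOK (hconj y hy)
  refine ⟨ρ, hρ, rfl, j, hj, c, hc, ?_⟩
  rw [← toTab_mul, ← toTab_pow, ← toTab_mul] at e
  rw [toTab_injective e, mul_inv_cancel_right]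

theorem mem_classCands {move : List ℕ} {L : List (List ℕ)} {n k : ℕ} {g h : Equiv.Perm GolayPt}
    (hh : toTab h = move) (hmem : toTab (h⁻¹ * g) ∈ L) (hn : g ^ n = 1)
    (hk : (fixedPts g).card = k) (hne : g ≠ 1) : toTab g ∈ classCands move L n k := by
  simp only [classCands, List.mem_filter, List.mem_map, Bool.and_eq_true, beq_iff_eq,
    bne_iff_ne, ne_eq]
  refine ⟨⟨_, hmem, by rw [← hh, ← toTab_mul, mul_inv_cancel_left]⟩, ⟨?_, ?_⟩, ?_⟩
  · rw [← toTab_pow, hn, toTab_one]
  · rw [← card_fixedPts, hk]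
  · rw [← toTab_one]
    exact fun e => hne (toTab_injective e)

theorem conj_pow_eq (c g : Equiv.Perm GolayPt) (n : ℕ) :
    (c⁻¹ * g * c) ^ n = c⁻¹ * g ^ n * c := by
  simpa using (conj_pow (a := c⁻¹) (b := g) (i := n))

/-- Classification of the elements fixing at least five points. -/
theorem classify_fixing {n k : ℕ} (h5 : 5 ≤ k) {rep : List ℕ} {conj : List (List ℕ)}
    (hok : classOK rep conj [1] (classCands idTab fixList5 n k) = true)
    {g : Equiv.Perm GolayPt} (hg : g ∈ M24) (hn : g ^ n = 1) (hne : g ≠ 1)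
    (hk : (fixedPts g).card = k) :
    ∃ ρ ∈ M24, toTab ρ = rep ∧ ∃ c ∈ M24, c * ρ * c⁻¹ = g := by
  obtain ⟨s, hs, hsc⟩ := Finset.exists_subset_card_eq (show 5 ≤ (fixedPts g).card by omega)
  let y : Fin 5 → GolayPt := fun i => s.equivFin.symm (Fin.cast hsc.symm i)
  obtain ⟨a, ha, hay⟩ := exists_map_five_fun (x := ![i2p 0, i2p 1, i2p 2, i2p 3, i2p 4]) (y := y)
    (by decide) (Subtype.val_injective.comp (s.equivFin.symm.injective.comp (Fin.cast_injective _)))
  have hfix : ∀ i, g (y i) = y i := fun i => mem_fixedPts.1 (hs (Finset.coe_mem _))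
  have hg' : a⁻¹ * g * a ∈ base7Fix 5 := by
    refine mem_base7Fix.2 ⟨M24.mul_mem (M24.mul_mem (M24.inv_mem ha) hg) ha, fun b hb => ?_⟩
    have hall : ∀ b ∈ base7.take 5, ∃ i : Fin 5,
        (![i2p 0, i2p 1, i2p 2, i2p 3, i2p 4] : Fin 5 → GolayPt) i = i2p b := by decide +kernel
    obtain ⟨i, hi⟩ := hall b hb
    rw [← hi, Equiv.Perm.mul_apply, Equiv.Perm.mul_apply, hay i, hfix i, ← hay i,
      ← Equiv.Perm.mul_apply, inv_mul_cancel, Equiv.Perm.one_apply]
  have hmem : toTab (a⁻¹ * g * a) ∈ classCands idTab fixList5 n k := by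
    refine mem_classCands toTab_one (by simpa using toTab_mem_fixList5 hg') ?_ ?_ ?_
    · rw [conj_pow_eq, hn]; simp
    · have := card_fixedPts_conj a⁻¹ g
      rw [inv_inv] at this
      rw [this, hk]
    · intro e
      apply hne
      rw [show g = a * (a⁻¹ * g * a) * a⁻¹ by group, e]
      simp
  obtain ⟨ρ, hρ, hr, j, hj, c, hc, e⟩ := exists_conj_of_cands hok hmem
  rw [List.mem_singleton] at hj
  subst hj
  refine ⟨ρ, hρ, hr, a * c, M24.mul_mem ha hc, ?_⟩
  rw [pow_one] at e
  calc a * c * ρ * (a * c)⁻¹ = a * (c * ρ * c⁻¹) * a⁻¹ := by group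
    _ = g := by rw [e]; group

/-- Classification of elements with few fixed points, given the images of five points. -/
theorem classify_moving {n k : ℕ} {rep move : List ℕ} {conj : List (List ℕ)} {js : List ℕ}
    (hmove : autoOK move = true) (hok : classOK rep conj js (classCands move fixList4 n k) = true)
    {g : Equiv.Perm GolayPt} (hg : g ∈ M24) (hn : g ^ n = 1) (hne : g ≠ 1)
    (hk : (fixedPts g).card = k) (a : Equiv.Perm GolayPt) (ha : a ∈ M24)
    (himg : ∀ i < 4, (a⁻¹ * g * a) (i2p i) = i2p (app move i)) :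
    ∃ ρ ∈ M24, toTab ρ = rep ∧ ∃ j ∈ js, ∃ c ∈ M24, c * ρ * c⁻¹ = g ^ j := by
  obtain ⟨h, hh, hht⟩ := rep_of_autoOK hmove
  have hg' : h⁻¹ * (a⁻¹ * g * a) ∈ base7Fix 4 := by
    refine mem_base7Fix.2 ⟨M24.mul_mem (M24.inv_mem hh)
      (M24.mul_mem (M24.mul_mem (M24.inv_mem ha) hg) ha), fun b hb => ?_⟩
    have hb4 : b < 4 := by revert b; decide +kernel
    have e : h (i2p b) = i2p (app move b) := by
      rw [← hht, app_toTab h b (by omega), i2p_p2i]
    rw [Equiv.Perm.mul_apply, himg b hb4, ← e, ← Equiv.Perm.mul_apply, inv_mul_cancel,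
      Equiv.Perm.one_apply]
  have hmem : toTab (a⁻¹ * g * a) ∈ classCands move fixList4 n k := by
    refine mem_classCands hht (toTab_mem_fixList4 hg') ?_ ?_ ?_
    · rw [conj_pow_eq, hn]; simp
    · have := card_fixedPts_conj a⁻¹ g
      rw [inv_inv] at this
      rw [this, hk]
    · intro e
      apply hne
      rw [show g = a * (a⁻¹ * g * a) * a⁻¹ by group, e]
      simp
  obtain ⟨ρ, hρ, hr, j, hj, c, hc, e⟩ := exists_conj_of_cands hok hmem
  refine ⟨ρ, hρ, hr, j, hj, a * c, M24.mul_mem ha hc, ?_⟩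
  rw [conj_pow_eq] at e
  calc a * c * ρ * (a * c)⁻¹ = a * (c * ρ * c⁻¹) * a⁻¹ := by group
    _ = g ^ j := by rw [e]; group

theorem fix3_ok : classOK fix3Rep fix3Conj [1] (classCands idTab fixList5 3 6) = true := by
  decide +kernel

theorem fix2_ok : classOK fix2Rep fix2Conj [1] (classCands idTab fixList5 2 8) = true := by
  decide +kernel

theorem free3_ok : classOK free3Rep free3Conj [1] (classCands free3Move fixList4 3 0) = true := by
  decide +kernel

theorem free2_ok : classOK free2Rep free2Conj [1] (classCands free2Move fixList4 2 0) = true := by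
  decide +kernel

theorem free3_move : autoOK free3Move = true ∧
    (List.range 4).map (app free3Move) = [1, 2, 0, 4] := by decide +kernel

theorem free2_move : autoOK free2Move = true ∧
    (List.range 4).map (app free2Move) = [1, 0, 3, 2] := by decide +kernel

theorem move_app {move L : List ℕ} (h : (List.range 4).map (app move) = L) {i : ℕ} (hi : i < 4) :
    app move i = L.getD i 0 := by
  subst h
  simp [List.getD_eq_getElem?_getD, hi]

/-- Fixed-point-free elements of order three. -/
theorem classify_free3 {g : Equiv.Perm GolayPt} (hg : g ∈ M24) (h3 : orderOf g = 3)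
    (h0 : ∀ p, g p ≠ p) : ∃ ρ ∈ M24, toTab ρ = free3Rep ∧ ∃ c ∈ M24, c * ρ * c⁻¹ = g := by
  have hn : g ^ 3 = 1 := h3 ▸ pow_orderOf_eq_one g
  have hne : g ≠ 1 := fun e => by rw [e, orderOf_one] at h3; norm_num at h3
  have hg3 : ∀ p, g (g (g p)) = p := fun p => by
    conv_rhs => rw [← Equiv.Perm.one_apply p, ← hn]
    rfl
  let p : GolayPt := none
  obtain ⟨q, hq⟩ : ∃ q, q ∉ ({p, g p, g (g p)} : Finset GolayPt) := by
    by_contra! h
    have h1 := Finset.card_le_card (fun z _ => h z :
      (Finset.univ : Finset GolayPt) ⊆ {p, g p, g (g p)})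
    rw [Finset.card_univ] at h1
    have h2 := h1.trans Finset.card_le_three
    rw [show Fintype.card GolayPt = 24 from rfl] at h2
    omega
  simp only [Finset.mem_insert, Finset.mem_singleton, not_or] at hq
  obtain ⟨hq1, hq2, hq3⟩ := hq
  obtain ⟨a, ha, hay⟩ := exists_map_five_fun (x := ![i2p 0, i2p 1, i2p 2, i2p 3, i2p 4])
    (y := ![p, g p, g (g p), q, g q]) (by decide) (by
      have k1 := h0 p
      have k2 := h0 (g p)
      have k3 : g (g p) ≠ p := fun e => h0 p (by have h := hg3 p; rwa [e] at h)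
      have k4 := h0 q
      have k5 : g q ≠ p := fun e => hq3 (by rw [← e, hg3])
      have k6 : g q ≠ g p := fun e => hq1 (g.injective e)
      have k7 : g q ≠ g (g p) := fun e => hq2 (g.injective e)
      refine List.nodup_ofFn.1 ?_
      show [p, g p, g (g p), q, g q].Nodup
      simp [k1.symm, k2.symm, k3.symm, k4.symm, k5.symm, k6.symm, k7.symm, Ne.symm hq1,
        Ne.symm hq2, Ne.symm hq3])
  obtain ⟨ρ, hρ, hr, j, hj, h⟩ := classify_moving (n := 3) (k := 0) free3_move.1 free3_ok hg hn hne
    (by simp [fixedPts, h0]) a ha (fun i hi => by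
      rw [move_app free3_move.2 hi, Equiv.Perm.mul_apply, Equiv.Perm.mul_apply, Equiv.Perm.inv_eq_iff_eq]
      have e0 := hay 0; have e1 := hay 1; have e2 := hay 2; have e3 := hay 3; have e4 := hay 4
      simp only [Matrix.cons_val] at e0 e1 e2 e3 e4
      interval_cases i <;> simp [e0, e1, e2, e3, e4, hg3])
  rw [List.mem_singleton] at hj
  subst hj
  rw [pow_one] at h
  exact ⟨ρ, hρ, hr, h⟩

/-- Fixed-point-free involutions. -/
theorem classify_free2 {g : Equiv.Perm GolayPt} (hg : g ∈ M24) (h2 : orderOf g = 2)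
    (h0 : ∀ p, g p ≠ p) : ∃ ρ ∈ M24, toTab ρ = free2Rep ∧ ∃ c ∈ M24, c * ρ * c⁻¹ = g := by
  have hn : g ^ 2 = 1 := h2 ▸ pow_orderOf_eq_one g
  have hne : g ≠ 1 := fun e => by rw [e, orderOf_one] at h2; norm_num at h2
  have hg2 : ∀ p, g (g p) = p := fun p => by
    conv_rhs => rw [← Equiv.Perm.one_apply p, ← hn]
    rfl
  let p : GolayPt := none
  obtain ⟨q, hq⟩ : ∃ q, q ∉ ({p, g p} : Finset GolayPt) := by
    by_contra! h
    have h1 := Finset.card_le_card (fun z _ => h z :
      (Finset.univ : Finset GolayPt) ⊆ {p, g p})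
    rw [Finset.card_univ] at h1
    have h2' := h1.trans Finset.card_le_two
    rw [show Fintype.card GolayPt = 24 from rfl] at h2'
    omega
  simp only [Finset.mem_insert, Finset.mem_singleton, not_or] at hq
  obtain ⟨hq1, hq2⟩ := hq
  obtain ⟨a, ha, hay⟩ := exists_map_four (x := ![i2p 0, i2p 1, i2p 2, i2p 3])
    (y := ![p, g p, q, g q]) (by decide) (by
      have k1 := h0 p
      have k4 := h0 q
      have k5 : g q ≠ p := fun e => hq2 (by rw [← e, hg2])
      have k6 : g q ≠ g p := fun e => hq1 (g.injective e)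
      refine List.nodup_ofFn.1 ?_
      show [p, g p, q, g q].Nodup
      simp [k1.symm, k4.symm, k5.symm, k6.symm, Ne.symm hq1, Ne.symm hq2])
  obtain ⟨ρ, hρ, hr, j, hj, h⟩ := classify_moving (n := 2) (k := 0) free2_move.1 free2_ok hg hn hne
    (by simp [fixedPts, h0]) a ha (fun i hi => by
      rw [move_app free2_move.2 hi, Equiv.Perm.mul_apply, Equiv.Perm.mul_apply, Equiv.Perm.inv_eq_iff_eq]
      have e0 := hay 0; have e1 := hay 1; have e2 := hay 2; have e3 := hay 3
      simp only [Matrix.cons_val] at e0 e1 e2 e3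
      interval_cases i <;> simp [e0, e1, e2, e3, hg2])
  rw [List.mem_singleton] at hj
  subst hj
  rw [pow_one] at h
  exact ⟨ρ, hρ, hr, h⟩

theorem trios_translate {k : Equiv.Perm GolayPt} (hk : k ∈ M24) (T : Finset (Finset GolayPt)) :
    k • T ∈ trios ↔ T ∈ trios :=
  ⟨fun h => by simpa using smul_mem_trios (M24.inv_mem hk) h, smul_mem_trios hk⟩

theorem sextets_translate {k : Equiv.Perm GolayPt} (hk : k ∈ M24) (S : Finset (Finset GolayPt)) :
    k • S ∈ sextets ↔ S ∈ sextets :=
  ⟨fun h => by simpa using smul_mem_sextets (M24.inv_mem hk) h, smul_mem_sextets hk⟩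

end CfsgLib.M24Orbits
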