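import Cfsg.Agent.M24Orbits.SubgroupTools
import Cfsg.Agent.M24Orbits.Data.Seven
import Cfsg.Agent.S5604
import Mathlib.GroupTheory.SpecificGroups.Alternating.Simple

/-!
The Sylow count at seven in a two-point stabiliser, and a fact on the symmetric group of degree
seven.
-/

set_option autoImplicit false

open scoped Pointwise

namespace CfsgLib.M24Orbits

open Cfsg CfsgLib.Golay CfsgLib.Mathieu Data

theorem sevenNorm_facts : sevenNorm.Nodup ∧ sevenNorm.length = 126 ∧
    (sevenNorm.all fun t => autoOK t && (List.range 7).any fun j =>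
      compTab t sevenRep == compTab (CfsgLib.Mathieu.powTab sevenRep j) t) = true ∧
    ((List.range 24).filter fun i => app sevenRep i == i) = [5, 9, 10] := by
  decide +kernel

theorem sevenNorm_fix_two : ([5, 9, 10].all fun a => [5, 9, 10].all fun b => a == b ||
    ((sevenNorm.filter fun t => app t a == a && app t b == b).length == 21 &&
      (sevenNorm.filter fun t => app t a == a && app t b == b).all fun t =>
        compTab t t != idTab || t == idTab)) = true := by
  decide +kernel

/-- An element of `M24` normalising the standard group of order seven is in the list. -/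
theorem toTab_mem_sevenNorm {ρ : M24} (hρ : toTab (ρ : Equiv.Perm GolayPt) = sevenRep) {x : M24}
    (hx : ∃ j : ℕ, x * ρ = ρ ^ j * x) : toTab (x : Equiv.Perm GolayPt) ∈ sevenNorm := by
  classical
  have h7 : ρ ^ 7 = 1 := Subtype.ext (CfsgLib.Mathieu.toTab_injective (by
    rw [Subgroup.coe_pow, CfsgLib.Mathieu.toTab_pow, hρ, Subgroup.coe_one, toTab_one]
    decide +kernel))
  have hinN : ∀ y : M24, (∃ j : ℕ, y * ρ = ρ ^ j * y) →
      y ∈ Subgroup.normalizer ((Subgroup.zpowers ρ : Subgroup M24) : Set M24) := by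
    intro y ⟨j, hj⟩
    have e : y * ρ * y⁻¹ = ρ ^ j := by rw [hj]; group
    have hsub : (Subgroup.zpowers ρ).map (MulAut.conj y).toMonoidHom ≤ Subgroup.zpowers ρ := by
      rw [MonoidHom.map_zpowers, Subgroup.zpowers_le]
      show y * ρ * y⁻¹ ∈ _
      rw [e]; exact Subgroup.pow_mem _ (Subgroup.mem_zpowers ρ) j
    have heq := Subgroup.eq_of_le_of_card_ge hsub
      (le_of_eq (Subgroup.card_map_of_injective (MulAut.conj y).injective).symm)
    rw [Subgroup.mem_normalizer_iff]
    intro h
    conv_rhs => rw [← heq]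
    exact ⟨fun hh => ⟨h, hh, rfl⟩, fun ⟨z, hz, ez⟩ => by
      rwa [← (MulAut.conj y).injective (ez.trans rfl : MulAut.conj y z = MulAut.conj y h)]⟩
  set N := Subgroup.normalizer ((Subgroup.zpowers ρ : Subgroup M24) : Set M24) with hN
  have hnorm : ∀ y ∈ N, ∃ j < 7, y * ρ = ρ ^ j * y := by
    intro y hy
    obtain ⟨j, hj, e⟩ := Cfsg.Agent.S5604.zpow_cases h7
      ((Subgroup.mem_normalizer_iff.1 hy ρ).1 (Subgroup.mem_zpowers ρ))
    exact ⟨j, hj, by rw [← e]; group⟩
  have hle := Cfsg.Agent.S5604.step_bound hρ h7 hnorm Cfsg.Agent.S5604.stab0 fun _ _ h => h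
  rw [Cfsg.Agent.S5604.stab0_facts.1] at hle
  haveI : Fintype ↥N := Fintype.ofFinite _
  let f : ↥N → List ℕ := fun y => toTab ((y : M24) : Equiv.Perm GolayPt)
  have hsub : sevenNorm.toFinset ⊆ Finset.univ.image f := by
    intro t ht
    rw [List.mem_toFinset] at ht
    have h := List.all_eq_true.1 sevenNorm_facts.2.2.1 t ht
    simp only [Bool.and_eq_true, List.any_eq_true, beq_iff_eq] at h
    obtain ⟨h1, j, -, h2⟩ := h
    obtain ⟨g, hg, rfl⟩ := rep_of_autoOK h1
    refine Finset.mem_image.2 ⟨⟨⟨g, hg⟩, hinN _ ⟨j, Subtype.ext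
      (CfsgLib.Mathieu.toTab_injective ?_)⟩⟩, Finset.mem_univ _, rfl⟩
    rw [Subgroup.coe_mul, Subgroup.coe_mul, Subgroup.coe_pow, toTab_mul, toTab_mul,
      CfsgLib.Mathieu.toTab_pow, hρ, h2]
  have hcard : (Finset.univ.image f).card ≤ sevenNorm.toFinset.card := by
    refine Finset.card_image_le.trans ?_
    rw [Finset.card_univ, ← Nat.card_eq_fintype_card,
      List.toFinset_card_of_nodup sevenNorm_facts.1, sevenNorm_facts.2.1]
    omega
  rw [← List.mem_toFinset, Finset.eq_of_subset_of_card_le hsub hcard]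
  exact Finset.mem_image.2 ⟨⟨x, hinN x hx⟩, Finset.mem_univ _, rfl⟩

theorem sylow_seven_count {K : Subgroup (Equiv.Perm GolayPt)} {p q : GolayPt} (hpq : p ≠ q)
    (hK : K ≤ fixPt (fixPt M24 p) q) (h7 : 7 ∣ Nat.card K) :
    ∃ N, (N = 7 ∨ N = 21) ∧ N ∣ Nat.card K ∧ Nat.card K / N % 7 = 1 := by
  classical
  haveI : Fact (Nat.Prime 7) := ⟨by norm_num⟩
  obtain ⟨c, hc⟩ := exists_prime_orderOf_dvd_card' (G := K) 7 h7
  have hcard : Nat.card (Subgroup.zpowers c) = 7 := by rw [Nat.card_zpowers, hc]
  have hdvd : Nat.card K ∣ 443520 := card_fixPair hpq ▸ Subgroup.card_dvd_of_le hK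
  have hfacK : (Nat.card K).factorization 7 = 1 := by
    refine le_antisymm ?_ ((Nat.Prime.dvd_iff_one_le_factorization (by norm_num)
      Nat.card_pos.ne').1 h7)
    have h1 := (Nat.factorization_le_iff_dvd Nat.card_pos.ne' (by norm_num)).2 hdvd 7
    refine h1.trans ?_
    rw [show (443520 : ℕ) = 7 * 63360 by norm_num, Nat.factorization_mul (by norm_num)
      (by norm_num), Finsupp.add_apply, Nat.Prime.factorization_self (by norm_num),
      Nat.factorization_eq_zero_of_not_dvd (by norm_num)]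
  let P : Sylow 7 K := Sylow.ofCard (Subgroup.zpowers c) (by rw [hcard, hfacK, pow_one])
  set Nn := Subgroup.normalizer ((Subgroup.zpowers c : Subgroup K) : Set K) with hNn
  have hidx : Nat.card (Sylow 7 K) = Nn.index := P.card_eq_index_normalizer
  have hmul := Subgroup.card_mul_index Nn
  have hmod : Nn.index % 7 = 1 := hidx ▸ card_sylow_modEq_one 7 K
  -- a conjugation to the standard group
  obtain ⟨r, hr, hrt⟩ := rep_of_autoOK Cfsg.Agent.S5604.rep_facts.1
  have hρord : orderOf (⟨r, hr⟩ : M24) = 7 := by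
    refine orderOf_eq_prime (Subtype.ext (CfsgLib.Mathieu.toTab_injective ?_))
      fun e => Cfsg.Agent.S5604.rep_facts.2.2.1 ?_
    · rw [Subgroup.coe_pow, CfsgLib.Mathieu.toTab_pow, hrt, Subgroup.coe_one, toTab_one]
      decide +kernel
    · rw [← hrt, show r = 1 from congrArg Subtype.val e, toTab_one]
  set c' : M24 := ⟨(c : Equiv.Perm GolayPt), (hK c.2).1.1⟩ with hc'
  have hc'ord : orderOf c' = 7 := by
    rw [← Subgroup.orderOf_coe c', hc', Subgroup.orderOf_coe c, hc]
  have hfac : (Nat.card M24).factorization 7 = 1 := by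
    rw [card_M24, show (244823040 : ℕ) = 7 * 34974720 by norm_num,
      Nat.factorization_mul (by norm_num) (by norm_num), Finsupp.add_apply,
      Nat.Prime.factorization_self (by norm_num), Nat.factorization_eq_zero_of_not_dvd (by norm_num)]
  obtain ⟨g, hg⟩ := MulAction.exists_smul_eq M24
    (Sylow.ofCard (Subgroup.zpowers c') (by rw [Nat.card_zpowers, hc'ord, hfac, pow_one]) :
      Sylow 7 M24)
    (Sylow.ofCard (Subgroup.zpowers (⟨r, hr⟩ : M24))
      (by rw [Nat.card_zpowers, hρord, hfac, pow_one]))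
  have he : (Subgroup.zpowers c').map (MulAut.conj g).toMonoidHom =
      Subgroup.zpowers (⟨r, hr⟩ : M24) := congrArg Sylow.toSubgroup hg
  obtain ⟨_, ⟨i, rfl⟩, hi⟩ := Subgroup.mem_map.1
    (he.symm ▸ Subgroup.mem_zpowers (⟨r, hr⟩ : M24) :
      (⟨r, hr⟩ : M24) ∈ (Subgroup.zpowers c').map (MulAut.conj g).toMonoidHom)
  -- fixed points
  have hfix : ∀ t : GolayPt, (c : Equiv.Perm GolayPt) t = t →
      p2i ((g : Equiv.Perm GolayPt) t) ∈ [5, 9, 10] := by
    intro t ht
    rw [← sevenNorm_facts.2.2.2, List.mem_filter, List.mem_range, beq_iff_eq]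
    refine ⟨p2i_lt _, ?_⟩
    have hci : ((c : Equiv.Perm GolayPt) ^ i) t = t :=
      zpowers_apply_fixed ht _ (Subgroup.zpow_mem_zpowers _ i)
    rw [← hrt, app_toTab', show r = (g : Equiv.Perm GolayPt) * (c : Equiv.Perm GolayPt) ^ i *
      (g : Equiv.Perm GolayPt)⁻¹ from (congrArg Subtype.val hi).symm]
    congr 1
    show ((g : Equiv.Perm GolayPt) * (c : Equiv.Perm GolayPt) ^ i * (g : Equiv.Perm GolayPt)⁻¹) •
      ((g : Equiv.Perm GolayPt) • t) = (g : Equiv.Perm GolayPt) • t
    rw [mul_smul, mul_smul, inv_smul_smul, Equiv.Perm.smul_def _ t, hci]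
  have ha := hfix p (hK c.2).1.2
  have hb := hfix q (hK c.2).2
  set a := p2i ((g : Equiv.Perm GolayPt) p) with hadef
  set b := p2i ((g : Equiv.Perm GolayPt) q) with hbdef
  have hab : a ≠ b := fun e => hpq (((g : Equiv.Perm GolayPt)).injective (p2i_injective e))
  set F := sevenNorm.filter fun t => app t a == a && app t b == b with hF
  have hFfacts := List.all_eq_true.1 (List.all_eq_true.1 sevenNorm_fix_two a ha) b hb
  simp only [Bool.or_eq_true, beq_iff_eq, hab, false_or, Bool.and_eq_true, List.all_eq_true,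
    bne_iff_ne, ne_eq] at hFfacts
  -- the normaliser in the list
  have hmemF : ∀ k ∈ Nn, toTab ((g : Equiv.Perm GolayPt) * (k : Equiv.Perm GolayPt) *
      (g : Equiv.Perm GolayPt)⁻¹) ∈ F := by
    intro k hk
    have hkp : (k : Equiv.Perm GolayPt) p = p := (hK k.2).1.2
    have hkq : (k : Equiv.Perm GolayPt) q = q := (hK k.2).2
    rw [hF, List.mem_filter, Bool.and_eq_true, beq_iff_eq, beq_iff_eq]
    refine ⟨?_, ?_, ?_⟩
    · refine toTab_mem_sevenNorm (ρ := ⟨r, hr⟩) hrt (x := g * ⟨(k : Equiv.Perm GolayPt),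
        (hK k.2).1.1⟩ * g⁻¹) ?_
      set k' : M24 := ⟨(k : Equiv.Perm GolayPt), (hK k.2).1.1⟩ with hk'
      obtain ⟨j, hj⟩ := Subgroup.mem_zpowers_iff.1
        ((Subgroup.mem_normalizer_iff.1 hk c).1 (Subgroup.mem_zpowers c))
      have hj' : k' * c' * k'⁻¹ = c' ^ j := Subtype.ext (by
        have := congrArg (fun z : K => (z : Equiv.Perm GolayPt)) hj.symm
        simpa [hk', hc'] using this)
      have hmem : g * k' * g⁻¹ * ⟨r, hr⟩ * (g * k' * g⁻¹)⁻¹ ∈
          Subgroup.zpowers (⟨r, hr⟩ : M24) := by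
        rw [← he]
        refine ⟨(k' * c' * k'⁻¹) ^ i, hj' ▸ Subgroup.zpow_mem _
          (Subgroup.zpow_mem_zpowers c' j) i, ?_⟩
        rw [← hi, conj_zpow]
        simp only [MulEquiv.coe_toMonoidHom, MulAut.conj_apply]
        group
      obtain ⟨m, -, hm⟩ := Cfsg.Agent.S5604.zpow_cases (by rw [← hρord]; exact pow_orderOf_eq_one _)
        hmem
      exact ⟨m, by rw [← hm]; group⟩
    · rw [app_toTab _ a (p2i_lt _), hadef, i2p_p2i]
      simp [hkp]
    · rw [app_toTab _ b (p2i_lt _), hbdef, i2p_p2i]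
      simp [hkq]
  have hle : Nat.card Nn ≤ 21 := by
    have := Nat.card_le_card_of_injective
      (fun k : Nn => (⟨_, List.mem_toFinset.2 (hmemF k.1 k.2)⟩ : ↥F.toFinset))
      (fun x y e => Subtype.ext (Subtype.ext (mul_left_cancel (mul_right_cancel
        (CfsgLib.Mathieu.toTab_injective (congrArg Subtype.val e))))))
    rw [Nat.card_eq_fintype_card (α := ↥F.toFinset), Fintype.card_coe] at this
    exact this.trans ((List.toFinset_card_le _).trans hFfacts.1.le)
  have h7N : 7 ∣ Nat.card Nn := hcard ▸ Subgroup.card_dvd_of_le Subgroup.le_normalizer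
  have hodd : ¬ 2 ∣ Nat.card Nn := by
    intro h2
    haveI : Fact (Nat.Prime 2) := ⟨Nat.prime_two⟩
    obtain ⟨k, hk⟩ := exists_prime_orderOf_dvd_card' (G := Nn) 2 h2
    set z := (g : Equiv.Perm GolayPt) * ((k : K) : Equiv.Perm GolayPt) *
      (g : Equiv.Perm GolayPt)⁻¹ with hz
    have hkk : ((k : K) : Equiv.Perm GolayPt) * ((k : K) : Equiv.Perm GolayPt) = 1 := by
      have := congrArg (fun y : Nn => ((y : K) : Equiv.Perm GolayPt))
        (hk ▸ pow_orderOf_eq_one k : k ^ 2 = 1)
      simpa [pow_two] using this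
    have hzz : z * z = 1 := by
      rw [hz]
      calc _ = (g : Equiv.Perm GolayPt) * (((k : K) : Equiv.Perm GolayPt) *
          ((k : K) : Equiv.Perm GolayPt)) * (g : Equiv.Perm GolayPt)⁻¹ := by group
        _ = 1 := by rw [hkk]; group
    rcases hFfacts.2 _ (hmemF k.1 k.2) with h | h
    · exact h (by rw [← hz, ← toTab_mul, hzz, toTab_one])
    · rw [← hz, ← toTab_one] at h
      have h1 := CfsgLib.Mathieu.toTab_injective h
      rw [hz] at h1
      have hk1 : k = 1 := Subtype.ext (Subtype.ext (by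
        have := congrArg (fun y => (g : Equiv.Perm GolayPt)⁻¹ * y * (g : Equiv.Perm GolayPt)) h1
        simpa [mul_assoc] using this))
      rw [hk1, orderOf_one] at hk
      norm_num at hk
  refine ⟨Nat.card Nn, ?_, ⟨Nn.index, hmul.symm⟩, ?_⟩
  · have : 0 < Nat.card Nn := Nat.card_pos
    omega
  · rw [← hmul, Nat.mul_div_cancel_left _ Nat.card_pos]
    exact hmod

/-- A proper subgroup of small index does not exist in a large simple group. -/
theorem eq_top_of_factorial_lt {G : Type*} [Group G] [Finite G] [IsSimpleGroup G]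
    (J : Subgroup G) {n : ℕ} (hJ : J.index ≤ n) (hn : n.factorial < Nat.card G) : J = ⊤ := by
  by_contra hne
  have hker : (MulAction.toPermHom G (G ⧸ J)).ker = ⊥ := by
    refine ((MonoidHom.normal_ker _).eq_bot_or_eq_top).resolve_right fun h => hne ?_
    rw [eq_top_iff]
    intro g _
    have : g ∈ (MulAction.toPermHom G (G ⧸ J)).ker := h ▸ Subgroup.mem_top g
    rw [← Subgroup.normalCore_eq_ker] at this
    exact Subgroup.normalCore_le J this
  have h := Nat.card_le_card_of_injective _ ((MonoidHom.ker_eq_bot_iff _).1 hker)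
  rw [Nat.card_perm] at h
  have h2 : (Nat.card (G ⧸ J)).factorial ≤ n.factorial := Nat.factorial_le hJ
  omega

/-- The symmetric group of degree seven has no subgroup of order 840. -/
theorem not_card_840 {α : Type*} [Fintype α] [DecidableEq α] (hα : Fintype.card α = 7)
    (R : Subgroup (Equiv.Perm α)) : Nat.card R ≠ 840 := by
  intro hR
  have hα' : Nat.card α = 7 := by rw [Nat.card_eq_fintype_card, hα]
  haveI : Nontrivial α := Fintype.one_lt_card_iff_nontrivial.1 (by omega)
  haveI := alternatingGroup.isSimpleGroup (α := α) (by omega)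
  have hA : Nat.card (alternatingGroup α) = 2520 := by
    rw [nat_card_alternatingGroup, hα']
    rfl
  have h2 : (alternatingGroup α).index = 2 := alternatingGroup.index_eq_two
  have hrel : (alternatingGroup α).relIndex R ∣ 2 := h2 ▸ Subgroup.relIndex_dvd_index_of_normal _ R
  set J := R.subgroupOf (alternatingGroup α) with hJ
  have e1 : Nat.card J = Nat.card ((alternatingGroup α).subgroupOf R) :=
    Nat.card_congr
      { toFun := fun x => ⟨⟨x.1.1, x.2⟩, x.1.2⟩
        invFun := fun x => ⟨⟨x.1.1, x.2⟩, x.1.2⟩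
        left_inv := fun _ => rfl
        right_inv := fun _ => rfl }
  have e2 := Subgroup.card_mul_index ((alternatingGroup α).subgroupOf R)
  rw [← e1, hR] at e2
  have e3 := Subgroup.card_mul_index J
  rw [hA] at e3
  have hle : Nat.card J ≤ 840 := hR ▸ e1.trans_le (Subgroup.card_le_card_group _)
  have hge : 420 ≤ Nat.card J := by
    have h3 := Nat.le_of_dvd two_pos hrel
    have h4 : Nat.card J * ((alternatingGroup α).subgroupOf R).index ≤ Nat.card J * 2 :=
      Nat.mul_le_mul_left _ h3
    omega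
  have hidx : J.index ≤ 6 := by
    by_contra hlt
    have := Nat.mul_le_mul hge (show 7 ≤ J.index by omega)
    omega
  have htop := eq_top_of_factorial_lt J hidx (by rw [hA]; decide)
  rw [htop, Subgroup.card_top, hA] at hle
  omega

end CfsgLib.M24Orbits
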