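import Cfsg.Agent.M24Orbits.SevenFix
import Cfsg.Agent.M24Orbits.Setups

/-!
Stabiliser orders, and the subgroups of index 253 in a point stabiliser of `M24`.
-/

set_option autoImplicit false

open scoped Pointwise

namespace CfsgLib.M24Orbits

open Cfsg CfsgLib.Golay CfsgLib.Mathieu

theorem mem_fixPt {H : Subgroup (Equiv.Perm GolayPt)} {p : GolayPt} {g : Equiv.Perm GolayPt} :
    g ∈ fixPt H p ↔ g ∈ H ∧ g p = p := Iff.rfl

theorem mem_stabM_iff {A : Type*} [MulAction (Equiv.Perm GolayPt) A] {S : A}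
    {g : Equiv.Perm GolayPt} : g ∈ stabM S ↔ g ∈ M24 ∧ g • S = S := Iff.rfl

theorem card_stab_octad {O : Finset GolayPt} (hO : O ∈ octads) :
    Nat.card (stabM O) = 322560 := by
  have h := card_stabM_mul (C := (octads : Set (Finset GolayPt))) hO
    (fun g hg => smul_mem_octads hg hO) (fun y hy => exists_map_octad hO hy)
  rw [ncard_octads] at h
  omega

theorem card_stab_sextet' {S : Finset (Finset GolayPt)} (hS : S ∈ sextets) :
    Nat.card (stabM S) = 138240 := by
  have h := card_stabM_mul (C := (sextets : Set (Finset (Finset GolayPt)))) hS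
    (fun g hg => smul_mem_sextets hg hS) (fun y hy => by
      obtain ⟨k, hk, e⟩ := exists_map_sextet hS
      obtain ⟨l, hl, e'⟩ := exists_map_sextet hy
      refine ⟨l * k⁻¹, M24.mul_mem hl (M24.inv_mem hk), ?_⟩
      rw [mul_smul, ← e, inv_smul_smul, e'])
  rw [ncard_sextets] at h
  omega

theorem card_fixPt_stab_octad {O : Finset GolayPt} (hO : O ∈ octads) {x : GolayPt} (hx : x ∈ O) :
    Nat.card (fixPt (stabM O) x) = 40320 := by
  have h := card_orbFin_mul (stabM O) x
  have e : orbFin (stabM O) x = O := by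
    refine Finset.Subset.antisymm (fun w hw => ?_) fun w hw => ?_
    · obtain ⟨g, hg, rfl⟩ := mem_orbFin.1 hw
      exact apply_mem_of_smul_eq (smul_eq_self hg) hx
    · obtain ⟨g, hg, hgO, -, hgx⟩ := exists_fix_move_octad hO (Finset.empty_subset O)
        (by simp) hx hw (Finset.notMem_empty x) (Finset.notMem_empty w)
      exact mem_orbFin.2 ⟨g, mem_stabM_iff.2 ⟨hg, hgO⟩, hgx⟩
  rw [e, card_stab_octad hO, hO.2] at h
  omega

theorem card_fixPt_two_stab_octad {O : Finset GolayPt} (hO : O ∈ octads) {x y : GolayPt}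
    (hx : x ∈ O) (hy : y ∈ O) (hxy : x ≠ y) :
    Nat.card (fixPt (fixPt (stabM O) x) y) = 5760 := by
  have h := card_orbFin_mul (fixPt (stabM O) x) y
  have e : orbFin (fixPt (stabM O) x) y = O.erase x := by
    refine Finset.Subset.antisymm (fun w hw => ?_) fun w hw => ?_
    · obtain ⟨g, hg, rfl⟩ := mem_orbFin.1 hw
      refine Finset.mem_erase.2 ⟨fun e => hxy ?_, apply_mem_of_smul_eq (smul_eq_self hg.1) hy⟩
      exact g.injective ((show g x = x from hg.2).trans e.symm)
    · obtain ⟨hwx, hwO⟩ := Finset.mem_erase.1 hw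
      obtain ⟨g, hg, hgO, hfix, hgy⟩ := exists_fix_move_octad hO
        (Finset.singleton_subset_iff.2 hx) (by simp) hy hwO
        (by simpa using hxy.symm) (by simpa using hwx)
      exact mem_orbFin.2 ⟨g, ⟨mem_stabM_iff.2 ⟨hg, hgO⟩, hfix x (by simp)⟩, hgy⟩
  rw [e, card_fixPt_stab_octad hO hx, Finset.card_erase_of_mem hx, hO.2] at h
  omega

theorem card_stab_small (s : Finset GolayPt) {m : ℕ}
    (hm : ∀ K : Subgroup (Equiv.Perm GolayPt), K ≤ M24 → (∀ g ∈ K, ∀ t ∈ s, g t = t) →
      Nat.card K ≤ m) :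
    Nat.card (stabM s) ≤ s.card.factorial * m :=
  card_le_of_preserves (fun _ hg => smul_eq_self hg)
    (hm _ (fun _ hg => hg.1.1) fun _ hg t ht => (mem_fixingSubgroup_iff _).1 hg.2 t ht)

theorem inf_fixing_apply {K : Subgroup (Equiv.Perm GolayPt)} {U : Finset GolayPt}
    {g : Equiv.Perm GolayPt}
    (hg : g ∈ K ⊓ fixingSubgroup (Equiv.Perm GolayPt) (U : Set GolayPt)) {u : GolayPt}
    (hu : u ∈ U) : g u = u :=
  (mem_fixingSubgroup_iff _).1 hg.2 u hu

theorem card_fixPt_stab_small (x : GolayPt) (s : Finset GolayPt) {m : ℕ}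
    (hm : ∀ K : Subgroup (Equiv.Perm GolayPt), K ≤ M24 →
      (∀ g ∈ K, ∀ t ∈ insert x s, g t = t) → Nat.card K ≤ m) :
    Nat.card (fixPt (stabM s) x) ≤ s.card.factorial * m :=
  card_le_of_preserves (fun _ hg => smul_eq_self hg.1)
    (hm _ (fun _ hg => hg.1.1.1) fun _ hg t ht => by
      rcases Finset.mem_insert.1 ht with rfl | ht
      · exact hg.1.2
      · exact inf_fixing_apply hg ht)

theorem card_inter_cases {K : Subgroup (Equiv.Perm GolayPt)} {P : Finset GolayPt}
    (h : TransOn K P) (p : GolayPt) :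
    ((orbFin K p ∩ P).card = P.card ∧ P ⊆ orbFin K p) ∨
      ((orbFin K p ∩ P).card = 0 ∧ Disjoint P (orbFin K p)) := by
  rcases h.subset_or_disjoint p with h | h
  · exact Or.inl ⟨congrArg Finset.card (Finset.inter_eq_right.2 h), h⟩
  · exact Or.inr ⟨Finset.card_eq_zero.2
      (Finset.disjoint_iff_inter_eq_empty.1 h.symm), h⟩

/-- The data on the orbit of the distinguished further point. -/
structure Parts23 (K : Subgroup (Equiv.Perm GolayPt)) (x y : GolayPt)
    (A B O : Finset GolayPt) : Prop where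
  hO : O ∈ octads
  hxy : x ≠ y
  cA : A.card = 2
  cB : B.card = 4
  hxA : x ∉ A
  hyA : y ∉ A
  hxB : x ∉ B
  hyB : y ∉ B
  hAB : Disjoint A B
  heq : insert x (insert y (A ∪ B)) = O
  tA : TransOn K A
  tB : TransOn K B
  tC : TransOn K Oᶜ

theorem exists_parts23 {K : Subgroup (Equiv.Perm GolayPt)} {x : GolayPt}
    (hK : K ≤ fixPt M24 x) (h : 128 ∣ Nat.card K) : ∃ y A B O, Parts23 K x y A B O := by
  obtain ⟨O, hO, y, A, B, h1, h2, h3, h4, h5, h6, h7, h8, h9, t1, t2, t3⟩ :=
    exists_parts_M23 hK h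
  exact ⟨y, A, B, O, hO, h1, h2, h3, h4, h5, h6, h7, h8, h9, t1, t2, t3⟩

namespace Parts23

variable {K : Subgroup (Equiv.Perm GolayPt)} {x y : GolayPt} {A B O : Finset GolayPt}

theorem x_mem (h : Parts23 K x y A B O) : x ∈ O := h.heq ▸ Finset.mem_insert_self _ _

theorem y_mem (h : Parts23 K x y A B O) : y ∈ O :=
  h.heq ▸ Finset.mem_insert_of_mem (Finset.mem_insert_self _ _)

theorem mem_O (h : Parts23 K x y A B O) {w : GolayPt} :
    w ∈ O ↔ w = x ∨ w = y ∨ w ∈ A ∨ w ∈ B := by
  rw [← h.heq]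
  simp

theorem x_notMem_orb (h : Parts23 K x y A B O) (hK : K ≤ fixPt M24 x) {c : GolayPt} (hc : c ≠ x) :
    x ∉ orbFin K c := fun hx => by
  obtain ⟨g, hg, e⟩ := mem_orbFin.1 hx
  exact hc (g.injective (e.trans (show g x = x from (hK hg).2).symm))

theorem orb_card (h : Parts23 K x y A B O) (hK : K ≤ fixPt M24 x) :
    (orbFin K y).card =
      1 + (orbFin K y ∩ A).card + (orbFin K y ∩ B).card + (orbFin K y ∩ Oᶜ).card := by
  classical
  set U := orbFin K y
  have e : U = insert y ((U ∩ A) ∪ (U ∩ B) ∪ (U ∩ Oᶜ)) := by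
    ext w
    simp only [Finset.mem_insert, Finset.mem_union, Finset.mem_inter, Finset.mem_compl, h.mem_O]
    constructor
    · intro hw
      have hwx : w ≠ x := fun e => h.x_notMem_orb hK h.hxy.symm (e ▸ hw)
      tauto
    · rintro (rfl | ((hw | hw) | hw))
      · exact self_mem_orbFin K w
      all_goals exact hw.1
  conv_lhs => rw [e]
  rw [Finset.card_insert_of_notMem, Finset.card_union_of_disjoint, Finset.card_union_of_disjoint]
  · omega
  · exact (h.hAB.mono Finset.inter_subset_right Finset.inter_subset_right)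
  · rw [Finset.disjoint_left]
    intro w hw hw'
    simp only [Finset.mem_union, Finset.mem_inter] at hw
    simp only [Finset.mem_inter, Finset.mem_compl, h.mem_O] at hw'
    tauto
  · simp only [Finset.mem_union, Finset.mem_inter, Finset.mem_compl, h.mem_O]
    have := h.hyA
    have := h.hyB
    tauto

theorem orb_cases (h : Parts23 K x y A B O) (hK : K ≤ fixPt M24 x) :
    (orbFin K y).card = 1 ∨ (orbFin K y).card = 3 ∨ (orbFin K y).card = 5 ∨
      ((orbFin K y).card = 7 ∧ ∀ g ∈ K, g • O = O) ∨ (orbFin K y).card = 17 ∨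
      (orbFin K y).card = 19 ∨ ((orbFin K y).card = 21 ∧ ∀ g ∈ K, g • A = A) ∨
      (orbFin K y).card = 23 := by
  have hc := h.orb_card hK
  have cC : Oᶜ.card = 16 := by
    rw [Finset.card_compl, h.hO.2]
    rfl
  rcases card_inter_cases h.tA y with ⟨eA, hA⟩ | ⟨eA, hA⟩ <;>
    rcases card_inter_cases h.tB y with ⟨eB, hB⟩ | ⟨eB, hB⟩ <;>
      rcases card_inter_cases h.tC y with ⟨eC, hC⟩ | ⟨eC, hC⟩ <;>
        rw [eA, eB, eC] at hc <;> (try simp only [h.cA, h.cB, cC] at hc) <;>
          (try simp only [Nat.reduceAdd] at hc) <;> simp only [hc, true_and, Nat.reduceEqDiff, false_or,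
            false_and, or_false, true_or]
  · intro g hg
    refine smul_eq_of_forall_mem fun w hw => ?_
    have hgx : g x = x := (hK hg).2
    by_contra hgw
    rcases h.mem_O.1 hw with rfl | hw'
    · exact hgw (hgx.symm ▸ hw)
    · have hwU : w ∈ orbFin K y := by
        rcases hw' with rfl | hw' | hw'
        exacts [self_mem_orbFin K w, hA hw', hB hw']
      exact Finset.disjoint_left.1 hC (Finset.mem_compl.2 hgw) (apply_mem_orbFin hg hwU)
  · intro g hg
    refine smul_eq_of_forall_mem fun w hw => ?_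
    by_contra hgw
    have hgx : g x = x := (hK hg).2
    have hnot : w ∉ orbFin K y := Finset.disjoint_left.1 hA hw
    apply hnot
    have hU : g w ∈ orbFin K y := by
      by_cases hO : g w ∈ O
      · rcases h.mem_O.1 hO with e | e | e | e
        · exact absurd (g.injective (e.trans hgx.symm)) fun e' => h.hxA (e' ▸ hw)
        · exact e ▸ self_mem_orbFin K y
        · exact absurd e hgw
        · exact hB e
      · exact hC (Finset.mem_compl.2 hO)
    have := apply_mem_orbFin (K.inv_mem hg) hU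
    rwa [Equiv.Perm.coe_inv, Equiv.symm_apply_apply] at this

theorem small_bound (h : Parts23 K x y A B O) (hK : K ≤ fixPt M24 x) :
    ((orbFin K y).card = 3 → Nat.card K ≤ 6 * 960) ∧
      ((orbFin K y).card = 5 → Nat.card K ≤ 120 * 16) := by
  have hT : (insert x (orbFin K y)).card = (orbFin K y).card + 1 :=
    Finset.card_insert_of_notMem (h.x_notMem_orb hK h.hxy.symm)
  have hfix : ∀ g ∈ K ⊓ fixingSubgroup (Equiv.Perm GolayPt) (orbFin K y : Set GolayPt),
      ∀ t ∈ insert x (orbFin K y), g t = t := by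
    intro g hg t ht
    rcases Finset.mem_insert.1 ht with rfl | ht
    · exact (hK hg.1).2
    · exact inf_fixing_apply hg ht
  constructor <;> intro e
  · refine (card_le_of_preserves (fun g hg => smul_orbFin hg)
      (card_fix_four (fun g hg => (hK hg.1).1) (T := insert x (orbFin K y)) (by omega) hfix)).trans ?_
    rw [e]; rfl
  · refine (card_le_of_preserves (fun g hg => smul_orbFin hg)
      (card_fix_six (fun g hg => (hK hg.1).1) (T := insert x (orbFin K y)) (by omega) hfix)).trans ?_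
    rw [e]; rfl

end Parts23

theorem forall_fixed_of_orbFin {K : Subgroup (Equiv.Perm GolayPt)} {y : GolayPt}
    (h : (orbFin K y).card = 1) : ∀ g ∈ K, g y = y := by
  intro g hg
  obtain ⟨a, ha⟩ := Finset.card_eq_one.1 h
  have h1 := apply_mem_orbFin hg (self_mem_orbFin K y)
  have h2 := self_mem_orbFin K y
  rw [ha, Finset.mem_singleton] at h1 h2
  exact h1.trans h2.symm

theorem dvd_of_orbFin (K : Subgroup (Equiv.Perm GolayPt)) (y : GolayPt) :
    (orbFin K y).card ∣ Nat.card K :=
  ⟨_, card_orbFin_mul K y⟩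

/-- Subgroups of index 253 in a point stabiliser. -/
theorem classify_253 {K : Subgroup (Equiv.Perm GolayPt)} {x : GolayPt} (hK : K ≤ fixPt M24 x)
    (hcard : Nat.card K = 40320) :
    (∃ s : Finset GolayPt, s.card = 2 ∧ x ∉ s ∧ K = fixPt (stabM s) x) ∨
      ∃ o ∈ octads, x ∈ o ∧ K = fixPt (stabM o) x := by
  obtain ⟨y, A, B, O, h⟩ := exists_parts23 hK (hcard ▸ by norm_num)
  have hdvd := dvd_of_orbFin K y
  rw [hcard] at hdvd
  rcases h.orb_cases hK with e | e | e | ⟨-, hinv⟩ | e | e | ⟨-, hinv⟩ | e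
  · exact absurd hcard (not_card_eq_40320 h.hxy
      fun g hg => ⟨hK hg, forall_fixed_of_orbFin e g hg⟩)
  · have := (h.small_bound hK).1 e; omega
  · have := (h.small_bound hK).2 e; omega
  · refine Or.inr ⟨O, h.hO, h.x_mem, Subgroup.eq_of_le_of_card_ge
      (fun g hg => ⟨mem_stabM_iff.2 ⟨(hK hg).1, hinv g hg⟩, (hK hg).2⟩) ?_⟩
    rw [card_fixPt_stab_octad h.hO h.x_mem, hcard]
  · rw [e] at hdvd; norm_num at hdvd
  · rw [e] at hdvd; norm_num at hdvd
  · refine Or.inl ⟨A, h.cA, h.hxA, Subgroup.eq_of_le_of_card_ge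
      (fun g hg => ⟨mem_stabM_iff.2 ⟨(hK hg).1, hinv g hg⟩, (hK hg).2⟩) ?_⟩
    rw [hcard]
    refine (card_fixPt_stab_small x A (m := 20160) fun L hL hfix =>
      card_fix_three hL (T := insert x A) ?_ hfix).trans ?_
    · rw [Finset.card_insert_of_notMem h.hxA, h.cA]
    · rw [h.cA]; rfl
  · rw [e] at hdvd; norm_num at hdvd

end CfsgLib.M24Orbits
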