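import Cfsg.Agent.M24Orbits.Transitive
import Cfsg.Agent.M24Orbits.Data.TwoGroups
import Cfsg.Agent.Mathieu.Subgroups
import Cfsg.Agent.Mathieu.IndexM22

/-!
Tools for subgroups of `M24` given by their order: orbits as finsets, bounds from preserved sets,
and the parts forced by a subgroup of odd index.
-/

set_option autoImplicit false

open scoped Pointwise

namespace CfsgLib.M24Orbits

open Cfsg CfsgLib.Golay CfsgLib.Mathieu Data

/-! ### Orbits -/

/-- The orbit of a point as a finset. -/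
noncomputable def orbFin (K : Subgroup (Equiv.Perm GolayPt)) (p : GolayPt) : Finset GolayPt :=
  (Set.toFinite (orbSet K p)).toFinset

theorem mem_orbFin {K : Subgroup (Equiv.Perm GolayPt)} {p q : GolayPt} :
    q ∈ orbFin K p ↔ ∃ g ∈ K, g p = q := by
  simp [orbFin, orbSet]

theorem self_mem_orbFin (K : Subgroup (Equiv.Perm GolayPt)) (p : GolayPt) : p ∈ orbFin K p :=
  mem_orbFin.2 ⟨1, K.one_mem, rfl⟩

theorem apply_mem_orbFin {K : Subgroup (Equiv.Perm GolayPt)} {p q : GolayPt}
    {g : Equiv.Perm GolayPt} (hg : g ∈ K) (hq : q ∈ orbFin K p) : g q ∈ orbFin K p := by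
  obtain ⟨a, ha, rfl⟩ := mem_orbFin.1 hq
  exact mem_orbFin.2 ⟨g * a, K.mul_mem hg ha, rfl⟩

theorem card_orbFin_mul (K : Subgroup (Equiv.Perm GolayPt)) (p : GolayPt) :
    Nat.card K = (orbFin K p).card * Nat.card (fixPt K p) := by
  rw [card_eq_orbSet_mul K p, Set.ncard_eq_toFinset_card]
  rfl

theorem smul_eq_of_forall_mem {g : Equiv.Perm GolayPt} {U : Finset GolayPt}
    (h : ∀ q ∈ U, g q ∈ U) : g • U = U := by
  refine Finset.eq_of_subset_of_card_le (fun x hx => ?_) (by rw [Finset.card_smul_finset])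
  obtain ⟨q, hq, rfl⟩ := Finset.mem_smul_finset.1 hx
  exact h q hq

theorem smul_orbFin {K : Subgroup (Equiv.Perm GolayPt)} {p : GolayPt} {g : Equiv.Perm GolayPt}
    (hg : g ∈ K) : g • orbFin K p = orbFin K p :=
  smul_eq_of_forall_mem fun _ hq => apply_mem_orbFin hg hq

theorem apply_mem_of_smul_eq {g : Equiv.Perm GolayPt} {U : Finset GolayPt} (h : g • U = U)
    {q : GolayPt} (hq : q ∈ U) : g q ∈ U := by
  rw [← h, ← Equiv.Perm.smul_def]
  exact Finset.smul_mem_smul_finset hq

theorem apply_eq_of_smul_mem {g : Equiv.Perm GolayPt} {U : Finset GolayPt} (h : g • U = U)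
    {q : GolayPt} (hq : g q ∈ U) : q ∈ U := by
  rw [← h, ← Equiv.Perm.smul_def, Finset.smul_mem_smul_finset_iff] at hq
  exact hq

/-- The group moves every point of `P` to every other. -/
def TransOn (K : Subgroup (Equiv.Perm GolayPt)) (P : Finset GolayPt) : Prop :=
  ∀ a ∈ P, ∀ b ∈ P, ∃ g ∈ K, g a = b

theorem TransOn.subset_or_disjoint {K : Subgroup (Equiv.Perm GolayPt)} {P : Finset GolayPt}
    (h : TransOn K P) (p : GolayPt) : P ⊆ orbFin K p ∨ Disjoint P (orbFin K p) := by
  by_cases hd : Disjoint P (orbFin K p)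
  · exact Or.inr hd
  · obtain ⟨a, haP, ha⟩ := Finset.not_disjoint_iff.1 hd
    refine Or.inl fun b hb => ?_
    obtain ⟨g, hg, rfl⟩ := h a haP b hb
    exact apply_mem_orbFin hg ha

theorem TransOn.subset_of_invariant {K : Subgroup (Equiv.Perm GolayPt)} {P T : Finset GolayPt}
    (h : TransOn K P) (hT : ∀ g ∈ K, g • T = T) {a : GolayPt} (haP : a ∈ P) (haT : a ∈ T) :
    P ⊆ T := by
  intro b hb
  obtain ⟨g, hg, rfl⟩ := h a haP b hb
  exact apply_mem_of_smul_eq (hT g hg) haT

/-! ### Bounds from preserved sets -/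

theorem card_le_factorial_mul : ∀ (U : Finset GolayPt) (K : Subgroup (Equiv.Perm GolayPt)),
    (∀ g ∈ K, ∀ u ∈ U, g u ∈ U) →
      Nat.card K ≤ U.card.factorial *
        Nat.card (K ⊓ fixingSubgroup (Equiv.Perm GolayPt) (U : Set GolayPt) :
          Subgroup (Equiv.Perm GolayPt)) := by
  intro U
  induction U using Finset.induction_on with
  | empty =>
    intro K _
    rw [Finset.card_empty, Nat.factorial_zero, one_mul]
    refine Subgroup.card_le_of_le fun g hg => ⟨hg, (mem_fixingSubgroup_iff _).2 ?_⟩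
    simp
  | @insert a U ha ih =>
    intro K hK
    have h1 : (orbFin K a).card ≤ U.card + 1 := by
      rw [← Finset.card_insert_of_notMem ha]
      refine Finset.card_le_card fun x hx => ?_
      obtain ⟨g, hg, rfl⟩ := mem_orbFin.1 hx
      exact hK g hg a (Finset.mem_insert_self a U)
    have h2 := ih (fixPt K a) (fun g hg u hu => by
      rcases Finset.mem_insert.1 (hK g hg.1 u (Finset.mem_insert_of_mem hu)) with e | e
      · exact absurd (g.injective (e.trans (show g a = a from hg.2).symm)) fun e' => ha (e' ▸ hu)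
      · exact e)
    have h3 : fixPt K a ⊓ fixingSubgroup (Equiv.Perm GolayPt) (U : Set GolayPt) =
        K ⊓ fixingSubgroup (Equiv.Perm GolayPt) (↑(insert a U) : Set GolayPt) := by
      ext g
      simp only [Subgroup.mem_inf, mem_fixingSubgroup_iff, MulAction.mem_stabilizer_iff,
        Finset.coe_insert, Set.mem_insert_iff, forall_eq_or_imp, Finset.mem_coe]
      tauto
    rw [h3] at h2
    rw [card_orbFin_mul K a, Finset.card_insert_of_notMem ha, Nat.factorial_succ, mul_assoc]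
    exact Nat.mul_le_mul h1 h2

/-- A bound for a group preserving a set, from a bound for its elements fixing the set. -/
theorem card_le_of_preserves {K : Subgroup (Equiv.Perm GolayPt)} {U : Finset GolayPt} {m : ℕ}
    (hU : ∀ g ∈ K, g • U = U)
    (hm : Nat.card (K ⊓ fixingSubgroup (Equiv.Perm GolayPt) (U : Set GolayPt) :
      Subgroup (Equiv.Perm GolayPt)) ≤ m) :
    Nat.card K ≤ U.card.factorial * m :=
  (card_le_factorial_mul U K fun g hg _ hu => apply_mem_of_smul_eq (hU g hg) hu).trans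
    (Nat.mul_le_mul_left _ hm)

theorem card_fix_two {K : Subgroup (Equiv.Perm GolayPt)} (hK : K ≤ M24) {T : Finset GolayPt}
    (hT : T.card = 2) (hfix : ∀ g ∈ K, ∀ t ∈ T, g t = t) : Nat.card K ≤ 443520 := by
  obtain ⟨a, b, hab, rfl⟩ := Finset.card_eq_two.1 hT
  rw [← card_fixPair hab]
  exact Subgroup.card_le_of_le fun g hg =>
    ⟨⟨hK hg, hfix g hg a (by simp)⟩, hfix g hg b (by simp)⟩

theorem card_fix_three {K : Subgroup (Equiv.Perm GolayPt)} (hK : K ≤ M24) {T : Finset GolayPt}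
    (hT : T.card = 3) (hfix : ∀ g ∈ K, ∀ t ∈ T, g t = t) : Nat.card K ≤ 20160 := by
  obtain ⟨a, b, c, hab, hac, hbc, rfl⟩ := Finset.card_eq_three.1 hT
  rw [← card_fixTriple hab hac hbc]
  exact Subgroup.card_le_of_le fun g hg =>
    ⟨⟨⟨hK hg, hfix g hg a (by simp)⟩, hfix g hg b (by simp)⟩, hfix g hg c (by simp)⟩

theorem map_conj_fix {K : Subgroup (Equiv.Perm GolayPt)} (hK : K ≤ M24) {g : Equiv.Perm GolayPt}
    (hg : g ∈ M24) {n : ℕ} (x : Fin n → GolayPt) (hfix : ∀ k ∈ K, ∀ i, k (x i) = x i) :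
    ∀ k ∈ K.map (MulAut.conj g).toMonoidHom, k ∈ M24 ∧ ∀ i, k (g (x i)) = g (x i) := by
  rintro _ ⟨k, hk, rfl⟩
  refine ⟨conj_mem hg (hK hk), fun i => ?_⟩
  show g (k (g⁻¹ (g (x i)))) = g (x i)
  rw [← Equiv.Perm.mul_apply g⁻¹, inv_mul_cancel, Equiv.Perm.one_apply, hfix k hk i]

theorem card_fix_four {K : Subgroup (Equiv.Perm GolayPt)} (hK : K ≤ M24) {T : Finset GolayPt}
    (hT : T.card = 4) (hfix : ∀ g ∈ K, ∀ t ∈ T, g t = t) : Nat.card K ≤ 960 := by
  let x : Fin 4 → GolayPt := fun i => T.equivFin.symm (Fin.cast hT.symm i)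
  obtain ⟨g, hg, h⟩ := exists_map_four (x := x) (y := ![i2p 0, i2p 1, i2p 2, i2p 3])
    (Subtype.val_injective.comp (T.equivFin.symm.injective.comp (Fin.cast_injective _)))
    (by decide)
  rw [← (Subgroup.card_map_of_injective (MulAut.conj g).injective :
    Nat.card (K.map (MulAut.conj g).toMonoidHom) = Nat.card K), ← card_base7Fix_four]
  refine Subgroup.card_le_of_le fun k hk => ?_
  obtain ⟨hkM, hk'⟩ := map_conj_fix hK hg x (fun k hk i => hfix k hk _ (Finset.coe_mem _)) k hk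
  refine mem_base7Fix.2 ⟨hkM, ?_⟩
  simp only [base7, List.take, List.mem_cons, List.not_mem_nil, or_false, forall_eq_or_imp,
    forall_eq]
  have hy : ∀ i, k (![i2p 0, i2p 1, i2p 2, i2p 3] i) = ![i2p 0, i2p 1, i2p 2, i2p 3] i :=
    fun i => by rw [← h i]; exact hk' i
  exact ⟨hy 0, hy 1, hy 2, hy 3⟩

theorem fixList5_six : ∀ r ∈ (List.range 24).filter (fun r => decide (5 ≤ r)),
    (fixList5.filter fun t => app t r == r).length ≤ 16 := by
  decide +kernel

theorem card_fix_six {K : Subgroup (Equiv.Perm GolayPt)} (hK : K ≤ M24) {T : Finset GolayPt}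
    (hT : 6 ≤ T.card) (hfix : ∀ g ∈ K, ∀ t ∈ T, g t = t) : Nat.card K ≤ 16 := by
  obtain ⟨T', hT'T, hT'⟩ := Finset.exists_subset_card_eq hT
  obtain ⟨z, hz⟩ := Finset.card_pos.1 (show 0 < T'.card by omega)
  have h5 : (T'.erase z).card = 5 := by rw [Finset.card_erase_of_mem hz, hT']
  let x : Fin 5 → GolayPt := fun i => (T'.erase z).equivFin.symm (Fin.cast h5.symm i)
  have hxmem : ∀ i, x i ∈ T'.erase z := fun i => Finset.coe_mem _
  obtain ⟨g, hg, h⟩ := exists_map_five_fun (x := x)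
    (y := ![i2p 0, i2p 1, i2p 2, i2p 3, i2p 4])
    (Subtype.val_injective.comp ((T'.erase z).equivFin.symm.injective.comp (Fin.cast_injective _)))
    (by decide)
  have hne : ∀ i, x i ≠ z := fun i e => Finset.notMem_erase z T' (e ▸ hxmem i)
  set r := p2i (g z) with hr
  have hr5 : 5 ≤ r := by
    by_contra hlt
    have hi : (⟨r, by omega⟩ : Fin 5) = ⟨r, by omega⟩ := rfl
    refine hne ⟨r, by omega⟩ (g.injective ?_)
    rw [h]
    have : (![i2p 0, i2p 1, i2p 2, i2p 3, i2p 4] : Fin 5 → GolayPt) =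
        fun j : Fin 5 => i2p j.1 := by decide
    rw [this]
    exact i2p_p2i (g z)
  rw [← (Subgroup.card_map_of_injective (MulAut.conj g).injective :
    Nat.card (K.map (MulAut.conj g).toMonoidHom) = Nat.card K)]
  set K' := K.map (MulAut.conj g).toMonoidHom with hK'
  have hmem : ∀ k : K', toTab (k : Equiv.Perm GolayPt) ∈
      (fixList5.filter fun t => app t r == r).toFinset := by
    rintro ⟨k, hk⟩
    obtain ⟨hkM, hk'⟩ := map_conj_fix hK hg x
      (fun k hk i => hfix k hk _ (hT'T (Finset.mem_of_mem_erase (hxmem i)))) k hk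
    have hkz : k (g z) = g z :=
      ((map_conj_fix hK hg (fun _ : Fin 1 => z)
        (fun k hk _ => hfix k hk z (hT'T hz)) k hk).2 0)
    rw [List.mem_toFinset, List.mem_filter, beq_iff_eq]
    refine ⟨toTab_mem_fixList5 (mem_base7Fix.2 ⟨hkM, ?_⟩), ?_⟩
    · simp only [base7, List.take, List.mem_cons, List.not_mem_nil, or_false, forall_eq_or_imp,
        forall_eq]
      have hy : ∀ i, k (![i2p 0, i2p 1, i2p 2, i2p 3, i2p 4] i) =
          ![i2p 0, i2p 1, i2p 2, i2p 3, i2p 4] i := fun i => by rw [← h i]; exact hk' i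
      exact ⟨hy 0, hy 1, hy 2, hy 3, hy 4⟩
    · rw [app_toTab k r (p2i_lt _), hr, i2p_p2i, hkz]
  have := Nat.card_le_card_of_injective
    (fun k : K' => (⟨toTab (k : Equiv.Perm GolayPt), hmem k⟩ :
      ↥(fixList5.filter fun t => app t r == r).toFinset))
    (fun a b e => Subtype.ext (CfsgLib.Mathieu.toTab_injective (congrArg Subtype.val e)))
  rw [Nat.card_eq_fintype_card (α := ↥(_ : Finset (List ℕ))), Fintype.card_coe] at this
  refine this.trans ((List.toFinset_card_le _).trans (fixList5_six r ?_))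
  rw [List.mem_filter, List.mem_range, decide_eq_true_eq]
  exact ⟨p2i_lt _, hr5⟩

/-! ### Moving points while fixing others -/

/-- Up to four fixed points and one moved. -/
theorem exists_fix_move {T : Finset GolayPt} (hT : T.card ≤ 4) {z z' : GolayPt} (hz : z ∉ T)
    (hz' : z' ∉ T) : ∃ g ∈ M24, (∀ t ∈ T, g t = t) ∧ g z = z' := by
  let e : Fin T.card → GolayPt := fun i => T.equivFin.symm i
  have he : Function.Injective e := Subtype.val_injective.comp T.equivFin.symm.injective
  have hnot : ∀ {w : GolayPt}, w ∉ T → w ∉ Set.range e := by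
    rintro w hw ⟨i, rfl⟩
    exact hw (Finset.coe_mem _)
  obtain ⟨g, hg, h⟩ := exists_map_tuple_list (n := T.card + 1) (by omega)
    (x := Fin.cons z e) (y := Fin.cons z' e)
    (Fin.cons_injective_iff.2 ⟨hnot hz, he⟩) (Fin.cons_injective_iff.2 ⟨hnot hz', he⟩)
  refine ⟨g, hg, fun t ht => ?_, by simpa using h 0⟩
  have := h (Fin.succ (T.equivFin ⟨t, ht⟩))
  simpa [e] using this

/-- Inside an octad: up to four fixed points and one moved. -/
theorem exists_fix_move_octad {O T : Finset GolayPt} (hO : O ∈ octads) (hTO : T ⊆ O)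
    (hT : T.card ≤ 4) {z z' : GolayPt} (hz : z ∈ O) (hz' : z' ∈ O) (hzT : z ∉ T)
    (hz'T : z' ∉ T) : ∃ g ∈ M24, g • O = O ∧ (∀ t ∈ T, g t = t) ∧ g z = z' := by
  have hroom : 4 ≤ ((O.erase z).erase z').card := by
    have h1 := Finset.pred_card_le_card_erase (s := O.erase z) (a := z')
    rw [Finset.card_erase_of_mem hz, hO.2] at h1
    omega
  have hsub : T ⊆ (O.erase z).erase z' := fun t ht =>
    Finset.mem_erase.2 ⟨fun e => hz'T (e ▸ ht), Finset.mem_erase.2 ⟨fun e => hzT (e ▸ ht), hTO ht⟩⟩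
  obtain ⟨T', hTT', hT'O, hT'⟩ := Finset.exists_subsuperset_card_eq hsub hT hroom
  have hT'z : z ∉ T' ∧ z' ∉ T' ∧ T' ⊆ O := by
    refine ⟨fun h => ?_, fun h => ?_, fun t ht => ?_⟩
    · exact Finset.notMem_erase z O (Finset.mem_of_mem_erase (hT'O h))
    · exact Finset.notMem_erase z' _ (hT'O h)
    · exact Finset.mem_of_mem_erase (Finset.mem_of_mem_erase (hT'O ht))
  obtain ⟨g, hg, hfix, hgz⟩ := exists_fix_move (le_of_eq hT') hT'z.1 hT'z.2.1
  refine ⟨g, hg, ?_, fun t ht => hfix t (hTT' ht), hgz⟩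
  refine octad_unique (s := insert z' T') ?_ (smul_mem_octads hg hO) hO (fun w hw => ?_)
    (fun w hw => ?_)
  · rw [Finset.card_insert_of_notMem hT'z.2.1, hT']
  · rcases Finset.mem_insert.1 hw with rfl | hw
    · rw [← hgz, ← Equiv.Perm.smul_def, Finset.smul_mem_smul_finset_iff]
      exact hz
    · rw [← hfix w hw, ← Equiv.Perm.smul_def, Finset.smul_mem_smul_finset_iff]
      exact hT'z.2.2 hw
  · rcases Finset.mem_insert.1 hw with rfl | hw
    · exact hz'
    · exact hT'z.2.2 hw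

theorem octFix16_trans : ((List.range 24).all fun a => (List.range 24).all fun b =>
    octO.testBit a || octO.testBit b || octFix16.any fun t => app t a == b) = true := by
  decide +kernel

/-- The pointwise stabiliser of an octad is transitive on the other points. -/
theorem octPointFix_trans {O : Finset GolayPt} (hO : O ∈ octads) {a b : GolayPt} (ha : a ∉ O)
    (hb : b ∉ O) : ∃ g ∈ octPointFix O, g a = b := by
  obtain ⟨c, hc, rfl⟩ := exists_map_octad octO_mem_octads hO
  obtain ⟨a, rfl⟩ : ∃ a', c • a' = a := ⟨c⁻¹ • a, smul_inv_smul c a⟩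
  obtain ⟨b, rfl⟩ : ∃ b', c • b' = b := ⟨c⁻¹ • b, smul_inv_smul c b⟩
  rw [Finset.smul_mem_smul_finset_iff, mem_ofMask_iff, Bool.not_eq_true] at ha hb
  have h := List.all_eq_true.1 (List.all_eq_true.1 octFix16_trans (p2i a)
    (List.mem_range.2 (p2i_lt a))) (p2i b) (List.mem_range.2 (p2i_lt b))
  simp only [ha, hb, Bool.false_or, List.any_eq_true, beq_iff_eq] at h
  obtain ⟨t, ht, e⟩ := h
  obtain ⟨k, hk, rfl⟩ := rep_octFix16 ht
  rw [app_toTab'] at e
  refine ⟨c * k * c⁻¹, (conj_mem_octPointFix hc).1 (octPointFix_octO ▸ hk), ?_⟩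
  show (c * k * c⁻¹) • (c • a) = c • b
  rw [mul_smul, mul_smul, inv_smul_smul, Equiv.Perm.smul_def k a, p2i_injective e]

theorem octPointFix_smul {O : Finset GolayPt} {g : Equiv.Perm GolayPt} (hg : g ∈ octPointFix O) :
    g • O = O := by
  refine smul_eq_of_forall_mem fun q hq => ?_
  have := (mem_fixingSubgroup_iff _).1 hg.2 q hq
  rw [Equiv.Perm.smul_def] at this
  rw [this]; exact hq

/-- Only one octad is invariant under the pointwise stabiliser of an octad. -/
theorem octad_eq_of_invariant {O O' : Finset GolayPt} (hO : O ∈ octads) (hO' : O' ∈ octads)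
    (h : ∀ g ∈ octPointFix O, g • O' = O') : O' = O := by
  refine Finset.eq_of_subset_of_card_le (fun z hz => ?_) (by rw [hO.2, hO'.2])
  by_contra hzO
  have hsub : Oᶜ ⊆ O' := fun w hw => by
    obtain ⟨g, hg, rfl⟩ := octPointFix_trans hO hzO (Finset.mem_compl.1 hw)
    exact apply_mem_of_smul_eq (h g hg) hz
  have := Finset.card_le_card hsub
  rw [Finset.card_compl, hO.2, hO'.2, show Fintype.card GolayPt = 24 from rfl] at this
  omega

/-! ### Parts forced by odd index -/

/-- A check that tables form a group of exponent dividing 16. -/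
noncomputable def qGroupOK (L : List (List ℕ)) : Bool :=
  L.contains idTab && L.all (fun t => autoOK t && CfsgLib.Mathieu.powTab t 16 == idTab) &&
    L.all fun s => L.all fun t => L.contains (compTab s t)

theorem pow_mem_tabs {L : List (List ℕ)} (h : qGroupOK L = true) {g : Equiv.Perm GolayPt}
    (hg : toTab g ∈ L) : ∀ n : ℕ, toTab (g ^ n) ∈ L := by
  simp only [qGroupOK, Bool.and_eq_true, List.all_eq_true, List.contains_eq_mem,
    decide_eq_true_eq] at h
  intro n
  induction n with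
  | zero => rw [pow_zero, toTab_one]; exact h.1.1
  | succ n ih => rw [pow_succ, toTab_mul]; exact h.2 _ ih _ hg

theorem pow_sixteen {L : List (List ℕ)} (h : qGroupOK L = true) {g : Equiv.Perm GolayPt}
    (hg : toTab g ∈ L) : g ^ 16 = 1 := by
  simp only [qGroupOK, Bool.and_eq_true, List.all_eq_true, beq_iff_eq] at h
  refine CfsgLib.Mathieu.toTab_injective ?_
  rw [CfsgLib.Mathieu.toTab_pow, (h.1.2 _ hg).2, toTab_one]

/-- The group of a list of tables. -/
def qGroup (L : List (List ℕ)) (h : qGroupOK L = true) : Subgroup (Equiv.Perm GolayPt) where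
  carrier := {g | g ∈ M24 ∧ toTab g ∈ L}
  one_mem' := ⟨M24.one_mem, by simpa using pow_mem_tabs h (g := 1) (by
    simp only [qGroupOK, Bool.and_eq_true, List.contains_eq_mem, decide_eq_true_eq] at h
    rw [toTab_one]; exact h.1.1) 0⟩
  mul_mem' := fun {a b} ha hb => ⟨M24.mul_mem ha.1 hb.1, by
    have h' := h
    simp only [qGroupOK, Bool.and_eq_true, List.all_eq_true, List.contains_eq_mem,
      decide_eq_true_eq] at h'
    rw [toTab_mul]
    exact h'.2 _ ha.2 _ hb.2⟩
  inv_mem' := fun {a} ha => ⟨M24.inv_mem ha.1, by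
    rw [show a⁻¹ = a ^ 15 from inv_eq_of_mul_eq_one_right (by
      rw [← pow_succ']; exact pow_sixteen h ha.2)]
    exact pow_mem_tabs h ha.2 15⟩

theorem qGroup_le {L : List (List ℕ)} (h : qGroupOK L = true) : qGroup L h ≤ M24 :=
  fun _ hg => hg.1

theorem isPGroup_qGroup {L : List (List ℕ)} (h : qGroupOK L = true) : IsPGroup 2 (qGroup L h) :=
  fun g => ⟨4, Subtype.ext (pow_sixteen h g.2.2)⟩

/-- A check that tables move every number of a mask to every other. -/
def transTabsOK (L : List (List ℕ)) (m : ℕ) : Bool :=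
  (List.range 24).all fun a => (List.range 24).all fun b =>
    !(m.testBit a) || !(m.testBit b) || L.any fun t => app t a == b

theorem transOn_qGroup {L : List (List ℕ)} (h : qGroupOK L = true) {m : ℕ}
    (ht : transTabsOK L m = true) : TransOn (qGroup L h) (ofMask m) := by
  intro a ha b hb
  rw [mem_ofMask_iff] at ha hb
  have h1 := List.all_eq_true.1 (List.all_eq_true.1 ht (p2i a) (List.mem_range.2 (p2i_lt a)))
    (p2i b) (List.mem_range.2 (p2i_lt b))
  simp only [ha, hb, Bool.not_true, Bool.false_or, List.any_eq_true, beq_iff_eq] at h1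
  obtain ⟨t, htL, e⟩ := h1
  have h' := h
  simp only [qGroupOK, Bool.and_eq_true, List.all_eq_true] at h'
  obtain ⟨g, hg, rfl⟩ := rep_of_autoOK (h'.1.2 t htL).1
  rw [app_toTab'] at e
  exact ⟨g, ⟨hg, htL⟩, p2i_injective e⟩

theorem TransOn.conj {Q K : Subgroup (Equiv.Perm GolayPt)} {P : Finset GolayPt}
    (h : TransOn Q P) {k : Equiv.Perm GolayPt} (hk : ∀ q ∈ Q, k * q * k⁻¹ ∈ K) :
    TransOn K (k • P) := by
  intro a ha b hb
  obtain ⟨a, ha', rfl⟩ := Finset.mem_smul_finset.1 ha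
  obtain ⟨b, hb', rfl⟩ := Finset.mem_smul_finset.1 hb
  obtain ⟨q, hq, rfl⟩ := h a ha' b hb'
  refine ⟨_, hk q hq, ?_⟩
  show (k * q * k⁻¹) • (k • a) = k • (q a)
  rw [mul_smul, mul_smul, inv_smul_smul, Equiv.Perm.smul_def q a]

/-- A subgroup of `2`-power-free index contains a conjugate of each `2`-subgroup. -/
theorem exists_conj_le {G K Q : Subgroup (Equiv.Perm GolayPt)} (hK : K ≤ G) (hQ : Q ≤ G) {n : ℕ}
    (hG : (Nat.card G).factorization 2 = n) (hQ2 : IsPGroup 2 Q) (hKn : 2 ^ n ∣ Nat.card K) :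
    ∃ g ∈ G, ∀ q ∈ Q, g * q * g⁻¹ ∈ K := by
  haveI : Fact (Nat.Prime 2) := ⟨Nat.prime_two⟩
  obtain ⟨S, hS⟩ := Sylow.exists_subgroup_card_pow_prime 2 (G := K.subgroupOf G) (n := n)
    (by rwa [Nat.card_congr (Subgroup.subgroupOfEquivOfLe hK).toEquiv])
  set S' : Subgroup G := S.map (K.subgroupOf G).subtype with hS'
  have hcard : Nat.card S' = 2 ^ (Nat.card G).factorization 2 := by
    rw [hS', Subgroup.card_map_of_injective (K.subgroupOf G).subtype_injective, hS, hG]
  obtain ⟨P, hP⟩ := (hQ2.of_equiv (Subgroup.subgroupOfEquivOfLe hQ).symm :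
    IsPGroup 2 (Q.subgroupOf G)).exists_le_sylow
  obtain ⟨g, hg⟩ := MulAction.exists_smul_eq G P (Sylow.ofCard S' hcard : Sylow 2 G)
  have e : (P : Subgroup G).map (MulAut.conj g).toMonoidHom = S' := congrArg Sylow.toSubgroup hg
  refine ⟨g, g.2, fun q hq => ?_⟩
  have hq' : (⟨q, hQ hq⟩ : G) ∈ (P : Subgroup G) := hP (Subgroup.mem_subgroupOf.2 hq)
  have hm := e ▸ Subgroup.mem_map_of_mem (MulAut.conj g).toMonoidHom hq'
  obtain ⟨s, -, es⟩ := Subgroup.mem_map.1 hm
  have hsK : (((s : K.subgroupOf G) : G) : Equiv.Perm GolayPt) ∈ K := Subgroup.mem_subgroupOf.1 s.2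
  have es' : (((s : K.subgroupOf G) : G) : Equiv.Perm GolayPt) =
      (g : Equiv.Perm GolayPt) * q * (g : Equiv.Perm GolayPt)⁻¹ := congrArg Subtype.val es
  exact es' ▸ hsK

theorem twoQ_ok : qGroupOK twoQ = true ∧ transTabsOK twoQ 5279 = true ∧
    transTabsOK twoQ 16771936 = true := by
  decide +kernel

theorem twoQFix_ok : qGroupOK twoQFix = true ∧ (twoQFix.all fun t => app t 0 == 0) = true ∧
    transTabsOK twoQFix 4112 = true ∧ transTabsOK twoQFix 142 = true ∧
    transTabsOK twoQFix 16771936 = true := by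
  decide +kernel

theorem compl_ofMask_5279 : (ofMask 5279)ᶜ = ofMask 16771936 := by decide +kernel

/-- A subgroup of odd index is transitive on an octad and on its complement. -/
theorem exists_parts_M24 {K : Subgroup (Equiv.Perm GolayPt)} (hK : K ≤ M24)
    (h : 1024 ∣ Nat.card K) : ∃ O ∈ octads, TransOn K O ∧ TransOn K Oᶜ := by
  obtain ⟨g, hg, hconj⟩ := exists_conj_le (n := 10) hK (qGroup_le twoQ_ok.1) (by
    rw [card_M24, show (244823040 : ℕ) = 2 ^ 10 * 239085 by norm_num,
      Nat.factorization_mul (by norm_num) (by norm_num), Finsupp.add_apply,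
      Nat.prime_two.factorization_pow, Finsupp.single_eq_same,
      Nat.factorization_eq_zero_of_not_dvd (by norm_num)]) (isPGroup_qGroup twoQ_ok.1) (by
    simpa using h)
  refine ⟨g • ofMask 5279, smul_mem_octads hg
    (ofMask_mem_octads (by decide +kernel) (by decide +kernel)), ?_, ?_⟩
  · exact (transOn_qGroup twoQ_ok.1 twoQ_ok.2.1).conj hconj
  · rw [← smul_compl', compl_ofMask_5279]
    exact (transOn_qGroup twoQ_ok.1 twoQ_ok.2.2).conj hconj

/-- A subgroup of odd index of a point stabiliser: an octad through the point, a further point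
of it, two parts of the rest of the octad and the complement. -/
theorem exists_parts_M23 {K : Subgroup (Equiv.Perm GolayPt)} {x : GolayPt}
    (hK : K ≤ fixPt M24 x) (h : 128 ∣ Nat.card K) :
    ∃ O ∈ octads, ∃ (y : GolayPt) (A B : Finset GolayPt), x ≠ y ∧ A.card = 2 ∧ B.card = 4 ∧
      x ∉ A ∧ y ∉ A ∧ x ∉ B ∧ y ∉ B ∧ Disjoint A B ∧ insert x (insert y (A ∪ B)) = O ∧
      TransOn K A ∧ TransOn K B ∧ TransOn K Oᶜ := by
  obtain ⟨k₀, hk₀, hk₀x⟩ := exists_map_one (i2p 0) x
  have hQ : (qGroup twoQFix twoQFix_ok.1).map (MulAut.conj k₀).toMonoidHom ≤ fixPt M24 x := by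
    rintro _ ⟨q, hq, rfl⟩
    refine ⟨conj_mem hk₀ hq.1, ?_⟩
    show (k₀ * q * k₀⁻¹) • x = x
    refine (conj_fix_iff k₀ q (i2p 0) x hk₀x).2 (p2i_injective ?_)
    have h0 := List.all_eq_true.1 twoQFix_ok.2.1 _ hq.2
    rw [beq_iff_eq, app_toTab q 0 (by norm_num)] at h0
    rw [Equiv.Perm.smul_def, h0, p2i_i2p 0 (by norm_num)]
  obtain ⟨g, hg, hconj⟩ := exists_conj_le (n := 7) hK hQ (by
    rw [CfsgLib.Mathieu.card_fixPt, show (10200960 : ℕ) = 2 ^ 7 * 79695 by norm_num,
      Nat.factorization_mul (by norm_num) (by norm_num), Finsupp.add_apply,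
      Nat.prime_two.factorization_pow, Finsupp.single_eq_same,
      Nat.factorization_eq_zero_of_not_dvd (by norm_num)])
    ((isPGroup_qGroup twoQFix_ok.1).map _) (by simpa using h)
  set k := g * k₀ with hk
  have hkM : k ∈ M24 := M24.mul_mem hg.1 hk₀
  have hkx : k • i2p 0 = x := by
    rw [hk, mul_smul, Equiv.Perm.smul_def k₀, hk₀x]
    exact hg.2
  have hkconj : ∀ q ∈ qGroup twoQFix twoQFix_ok.1, k * q * k⁻¹ ∈ K := by
    intro q hq
    have := hconj _ (Subgroup.mem_map_of_mem (MulAut.conj k₀).toMonoidHom hq)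
    rw [show g * (MulAut.conj k₀).toMonoidHom q * g⁻¹ = g * (k₀ * q * k₀⁻¹) * g⁻¹ from rfl] at this
    rwa [show k * q * k⁻¹ = g * (k₀ * q * k₀⁻¹) * g⁻¹ by rw [hk]; group]
  have hbase : i2p 0 ≠ i2p 10 ∧ (ofMask 4112).card = 2 ∧ (ofMask 142).card = 4 ∧
      i2p 0 ∉ ofMask 4112 ∧ i2p 10 ∉ ofMask 4112 ∧ i2p 0 ∉ ofMask 142 ∧ i2p 10 ∉ ofMask 142 ∧
      Disjoint (ofMask 4112) (ofMask 142) ∧
      insert (i2p 0) (insert (i2p 10) (ofMask 4112 ∪ ofMask 142)) = ofMask 5279 := by
    decide +kernel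
  obtain ⟨b1, b2, b3, b4, b5, b6, b7, b8, b9⟩ := hbase
  refine ⟨k • ofMask 5279, smul_mem_octads hkM
      (ofMask_mem_octads (by decide +kernel) (by decide +kernel)),
    k • i2p 10, k • ofMask 4112, k • ofMask 142, ?_, ?_, ?_, ?_, ?_, ?_, ?_, ?_, ?_,
    (transOn_qGroup twoQFix_ok.1 twoQFix_ok.2.2.1).conj hkconj,
    (transOn_qGroup twoQFix_ok.1 twoQFix_ok.2.2.2.1).conj hkconj, ?_⟩
  · rw [← hkx]; exact fun e => b1 (smul_left_cancel k e)
  · rw [Finset.card_smul_finset, b2]
  · rw [Finset.card_smul_finset, b3]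
  · rw [← hkx, Finset.smul_mem_smul_finset_iff]; exact b4
  · rw [Finset.smul_mem_smul_finset_iff]; exact b5
  · rw [← hkx, Finset.smul_mem_smul_finset_iff]; exact b6
  · rw [Finset.smul_mem_smul_finset_iff]; exact b7
  · exact Finset.disjoint_left.2 fun w hw hw' => by
      obtain ⟨a, ha, rfl⟩ := Finset.mem_smul_finset.1 hw
      rw [Finset.smul_mem_smul_finset_iff] at hw'
      exact Finset.disjoint_left.1 b8 ha hw'
  · rw [← hkx, ← Finset.smul_finset_union, ← Finset.smul_finset_insert,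
      ← Finset.smul_finset_insert, b9]
  · rw [← smul_compl', compl_ofMask_5279]
    exact (transOn_qGroup twoQFix_ok.1 twoQFix_ok.2.2.2.2).conj hkconj

end CfsgLib.M24Orbits
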